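import Mathlib.RingTheory.Etale.StandardEtale
import Mathlib.RingTheory.Etale.Basic
import Mathlib.RingTheory.Spectrum.Prime.Chevalley
import Mathlib.FieldTheory.IsAlgClosed.AlgebraicClosure
import Mathlib.LinearAlgebra.Matrix.NonsingularInverse
import Mathlib.LinearAlgebra.Matrix.SchurComplement
import Mathlib.RingTheory.RingHom.Etale

/-! Ordinary quadratic forms of even rank split etale locally. -/

namespace Groth.Agent.QEtSplit

open Matrix Polynomial

universe u

section Forms

variable {R : Type*} [CommRing R] {ι : Type*} [Fintype ι]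

/-- the quadratic form of a matrix -/
def q (B : Matrix ι ι R) (x : ι → R) : R := x ⬝ᵥ B *ᵥ x

/-- its polar form -/
def bS (B : Matrix ι ι R) (x y : ι → R) : R := x ⬝ᵥ (B + Bᵀ) *ᵥ y

variable (B : Matrix ι ι R)

theorem bS_eq (x y : ι → R) : bS B x y = x ⬝ᵥ B *ᵥ y + y ⬝ᵥ B *ᵥ x := by
  rw [bS, add_mulVec, dotProduct_add, dotProduct_mulVec x Bᵀ, vecMul_transpose, dotProduct_comm (B *ᵥ x)]

theorem bS_comm (x y : ι → R) : bS B x y = bS B y x := by
  rw [bS_eq, bS_eq, add_comm]

theorem bS_self (x : ι → R) : bS B x x = 2 * q B x := by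
  rw [bS_eq, q, two_mul]

theorem q_add (x y : ι → R) : q B (x + y) = q B x + q B y + bS B x y := by
  rw [bS_eq, q, q, q, mulVec_add, add_dotProduct, dotProduct_add, dotProduct_add]
  ring

theorem q_smul (c : R) (x : ι → R) : q B (c • x) = c * c * q B x := by
  rw [q, q, mulVec_smul, smul_dotProduct, dotProduct_smul, smul_eq_mul, smul_eq_mul, mul_assoc]

theorem bS_add_left (x y z : ι → R) : bS B (x + y) z = bS B x z + bS B y z := by
  simp [bS, add_dotProduct]

theorem bS_smul_left (c : R) (x z : ι → R) : bS B (c • x) z = c * bS B x z := by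
  simp [bS, smul_dotProduct]

theorem bS_sub_left (x y z : ι → R) : bS B (x - y) z = bS B x z - bS B y z := by
  simp [bS, sub_dotProduct]

theorem bS_add_right (x y z : ι → R) : bS B x (y + z) = bS B x y + bS B x z := by
  simp [bS, mulVec_add, dotProduct_add]

theorem bS_smul_right (c : R) (x z : ι → R) : bS B x (c • z) = c * bS B x z := by
  simp [bS, mulVec_smul, dotProduct_smul]

theorem bS_sub_right (x y z : ι → R) : bS B x (y - z) = bS B x y - bS B x z := by
  simp [bS, mulVec_sub, dotProduct_sub]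

theorem bS_single [DecidableEq ι] (i j : ι) : bS B (Pi.single i 1) (Pi.single j 1) = (B + Bᵀ) i j := by
  simp [bS]

variable {S : Type*} [CommRing S] (σ : R →+* S)

theorem map_add_transpose : B.map σ + (B.map σ)ᵀ = (B + Bᵀ).map σ := by
  rw [← transpose_map, Matrix.map_add _ (map_add σ)]

theorem map_bS (x y : ι → R) : bS (B.map σ) (σ ∘ x) (σ ∘ y) = σ (bS B x y) := by
  simp only [bS, map_add_transpose, RingHom.map_dotProduct]
  congr 1
  funext i
  exact (RingHom.map_mulVec σ _ y i).symm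

theorem map_q (x : ι → R) : q (B.map σ) (σ ∘ x) = σ (q B x) := by
  simp only [q, RingHom.map_dotProduct]
  congr 1
  funext i
  exact (RingHom.map_mulVec σ _ x i).symm

theorem q_pullback {κ : Type*} [Fintype κ] (G : Matrix ι κ R) (x : κ → R) :
    q (Gᵀ * B * G) x = q B (G *ᵥ x) := by
  rw [q, q, ← mulVec_mulVec, ← mulVec_mulVec, dotProduct_mulVec, vecMul_transpose]

/-- over a field, a nondegenerate form has a nondegenerate plane with an anisotropic vector -/
theorem exists_plane_field {K : Type*} [Field K] [DecidableEq ι] (B : Matrix ι ι K) (hdet : (B + Bᵀ).det ≠ 0)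
    (hι : 2 ≤ Fintype.card ι) :
    ∃ u w : ι → K, (∃ i j k : ι, u = Pi.single i 1 ∧ (w = Pi.single j 1 ∨ w = Pi.single j 1 + Pi.single k 1)) ∧
      bS B u w * bS B u w - 4 * q B u * q B w ≠ 0 := by
  by_contra hc
  push Not at hc
  haveI : Nontrivial ι := Fintype.one_lt_card_iff_nontrivial.1 hι
  set S := B + Bᵀ with hS
  have hsym : ∀ i j, S i j = S j i := fun i j => by simp [hS, add_comm]
  have e1 : ∀ u w, bS B u w * bS B u w - bS B u u * bS B w w = bS B u w * bS B u w - 4 * q B u * q B w :=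
    fun u w => by rw [bS_self, bS_self]; ring
  have h1 : ∀ i j, S i j * S i j = S i i * S j j := fun i j => by
    have := (e1 _ _).trans (hc _ _ ⟨i, j, j, rfl, Or.inl rfl⟩)
    rw [bS_single, bS_single, bS_single] at this
    exact sub_eq_zero.1 this
  have h2 : ∀ i j k, 2 * (S i j * S i k - S i i * S j k) = 0 := fun i j k => by
    have := (e1 _ _).trans (hc _ _ ⟨i, j, k, rfl, Or.inr rfl⟩)
    simp only [bS_add_left, bS_add_right, bS_single] at this
    rw [← hS] at this
    linear_combination this - h1 i j - h1 i k + S i i * hsym k j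
  by_cases hd : ∀ i, S i i = 0
  · refine hdet ?_
    rw [show S = 0 from Matrix.ext fun i j => mul_self_eq_zero.1 (by rw [h1 i j, hd i, zero_mul])]
    exact det_zero
  push Not at hd
  obtain ⟨i, hi⟩ := hd
  have h2ne : (2 : K) ≠ 0 := fun h => hi (by
    have : S i i = 2 * B i i := by simp [hS, two_mul]
    rw [this, h, zero_mul])
  obtain ⟨j, hji⟩ := exists_ne i
  refine hdet (exists_vecMul_eq_zero_iff.1 ⟨S i i • Pi.single j (1 : K) - S i j • Pi.single i 1, fun e => hi ?_, ?_⟩)
  · simpa [Pi.single_apply, hji] using congrFun e j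
  · funext k
    have := (mul_eq_zero.1 (h2 i j k)).resolve_left h2ne
    simp [sub_vecMul, smul_vecMul]
    linear_combination -this

end Forms

/-- a nondegenerate plane with an anisotropic vector at a point -/
theorem exists_plane {A : Type*} [CommRing A] {ι : Type*} [Fintype ι] [DecidableEq ι] (B : Matrix ι ι A)
    (hdet : IsUnit (B + Bᵀ).det) (hι : 2 ≤ Fintype.card ι) {K : Type*} [Field K] (φ : A →+* K) :
    ∃ u w : ι → A, φ (q B u * (bS B u w * bS B u w - 4 * q B u * q B w)) ≠ 0 := by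
  have hK : (B.map φ + (B.map φ)ᵀ).det ≠ 0 := by
    rw [map_add_transpose, ← RingHom.mapMatrix_apply, ← RingHom.map_det]
    exact (hdet.map φ).ne_zero
  obtain ⟨u', w', ⟨i, j, k, hu, hw⟩, hne⟩ := exists_plane_field (B.map φ) hK hι
  obtain ⟨u, rfl⟩ : ∃ u : ι → A, u' = φ ∘ u := ⟨Pi.single i 1, by rw [hu]; funext l; simp [Pi.single_apply, apply_ite φ]⟩
  obtain ⟨w, rfl⟩ : ∃ w : ι → A, w' = φ ∘ w := by
    rcases hw with hw | hw
    · exact ⟨Pi.single j 1, by rw [hw]; funext l; simp [Pi.single_apply, apply_ite φ]⟩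
    · exact ⟨Pi.single j 1 + Pi.single k 1, by rw [hw]; funext l; simp [Pi.single_apply, apply_ite φ]⟩
  rw [map_bS, map_q, map_q] at hne
  have key : ∀ x y : ι → A, φ (bS B x y * bS B x y - 4 * q B x * q B y) =
      φ (bS B x y) * φ (bS B x y) - 4 * φ (q B x) * φ (q B y) := fun x y => by simp [map_ofNat]
  by_cases h1 : φ (q B u) ≠ 0
  · exact ⟨u, w, by rw [map_mul, key]; exact mul_ne_zero h1 hne⟩
  push Not at h1
  by_cases h2 : φ (q B w) ≠ 0
  · refine ⟨w, u, ?_⟩
    rw [map_mul, key, bS_comm]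
    exact mul_ne_zero h2 fun e => hne (by linear_combination e)
  push Not at h2
  refine ⟨u + w, w, ?_⟩
  have hb : φ (bS B u w) ≠ 0 := fun e => hne (by rw [e, h1]; ring)
  rw [map_mul, key, q_add, bS_add_left, bS_self]
  simp only [map_add, map_mul, map_ofNat, h1, h2]
  simpa using hb

/-- a hyperbolic pair etale locally -/
theorem exists_pair {A : Type u} [CommRing A] {ι : Type} [Fintype ι] [DecidableEq ι] (B : Matrix ι ι A)
    (hdet : IsUnit (B + Bᵀ).det) (hι : 2 ≤ Fintype.card ι) {K : Type u} [Field K] (φ : A →+* K) :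
    ∃ (C : Type u) (_ : CommRing C) (_ : Algebra A C) (L : Type u) (_ : Field L) (ψ : C →+* L) (j : K →+* L)
      (v w : ι → C) (a b : ι), Algebra.Etale A C ∧ ψ.comp (algebraMap A C) = j.comp φ ∧
      q (B.map (algebraMap A C)) v = 0 ∧ q (B.map (algebraMap A C)) w = 0 ∧
      bS (B.map (algebraMap A C)) v w = 1 ∧ a ≠ b ∧ IsUnit (v a * w b - v b * w a) := by
  classical
  obtain ⟨u₀, w₀, hne⟩ := exists_plane B hdet hι φ
  set f := q B u₀ * (bS B u₀ w₀ * bS B u₀ w₀ - 4 * q B u₀ * q B w₀) with hf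
  let A' := Localization.Away f
  have hφf : IsUnit (φ f) := isUnit_iff_ne_zero.2 hne
  let φ' : A' →+* K := IsLocalization.Away.lift f hφf
  have hfu : IsUnit (algebraMap A A' f) := IsLocalization.Away.algebraMap_isUnit f
  let σ := algebraMap A A'
  obtain ⟨⟨a₀, ha₀⟩, hΔ⟩ : IsUnit (σ (q B u₀)) ∧ IsUnit (σ (bS B u₀ w₀ * bS B u₀ w₀ - 4 * q B u₀ * q B w₀)) := by
    rw [← IsUnit.mul_iff, ← map_mul]
    exact hfu
  let p : A' := (↑a₀⁻¹ : A') * σ (bS B u₀ w₀)
  let c : A' := (↑a₀⁻¹ : A') * σ (q B w₀)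
  have hp : (a₀ : A') * p = σ (bS B u₀ w₀) := by simp [p, ← mul_assoc]
  have hc : (a₀ : A') * c = σ (q B w₀) := by simp [c, ← mul_assoc]
  have hdeg : (Polynomial.C p * Polynomial.X + Polynomial.C c).degree < ((2 : ℕ) : WithBot ℕ) :=
    lt_of_le_of_lt (Polynomial.degree_linear_le) (by decide)
  let P : StandardEtalePair A' :=
    { f := Polynomial.X ^ 2 + (Polynomial.C p * Polynomial.X + Polynomial.C c)
      monic_f := Polynomial.monic_X_pow_add hdeg
      g := Polynomial.derivative (Polynomial.X ^ 2 + (Polynomial.C p * Polynomial.X + Polynomial.C c))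
      cond := ⟨1, 0, 1, by simp⟩ }
  have hPg : P.g = Polynomial.C 2 * Polynomial.X + Polynomial.C p := by
    simp [P, Polynomial.derivative_X_pow, one_add_one_eq_two, map_ofNat]
  haveI : Nontrivial A' := φ'.domain_nontrivial
  let j : K →+* AlgebraicClosure K := algebraMap K (AlgebraicClosure K)
  letI : Algebra A' (AlgebraicClosure K) := (j.comp φ').toAlgebra
  let am := algebraMap A' (AlgebraicClosure K)
  obtain ⟨r, hr⟩ := IsAlgClosed.exists_root (P.f.map am) (by
    rw [P.monic_f.degree_map am, Polynomial.degree_add_eq_left_of_degree_lt (by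
      rw [Polynomial.degree_X_pow]; exact hdeg), Polynomial.degree_X_pow]
    decide)
  rw [Polynomial.IsRoot, Polynomial.eval_map] at hr
  have hroot : P.HasMap r := by
    refine ⟨hr, isUnit_iff_ne_zero.2 fun h0 => (hΔ.map am).ne_zero ?_⟩
    have hr' : r ^ 2 + (am p * r + am c) = 0 := by simpa [P, am] using hr
    rw [hPg] at h0
    have h0' : 2 * r + am p = 0 := by simpa [am, map_ofNat] using h0
    have e1 : am (σ (bS B u₀ w₀)) = am a₀ * am p := by rw [← map_mul, hp]
    have e2 : am (σ (q B w₀)) = am a₀ * am c := by rw [← map_mul, hc]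
    have e3 : am (σ (q B u₀)) = am a₀ := by rw [ha₀]
    simp only [map_sub, map_mul, map_ofNat]
    rw [e1, e2, e3]
    linear_combination (-4 * am a₀ * am a₀) * hr' + (am a₀ * am a₀ * (2 * r + am p)) * h0'
  let C₀ := P.Ring
  let ψ₀ : C₀ →+* AlgebraicClosure K := (P.lift r hroot).toRingHom
  let τ := algebraMap A' C₀
  letI : Algebra A C₀ := (τ.comp σ).toAlgebra
  haveI : IsScalarTower A A' C₀ := IsScalarTower.of_algebraMap_eq fun _ => rfl
  haveI : Algebra.Etale A A' := Algebra.Etale.of_isLocalizationAway f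
  haveI : Algebra.Etale A C₀ := Algebra.Etale.comp A A' C₀
  set B₀ := B.map (algebraMap A C₀) with hB₀
  let t : C₀ := P.X
  have ht : t * t + (τ p * t + τ c) = 0 := by
    simpa [P, τ, sq] using P.hasMap_X.1
  have htu : IsUnit (2 * t + τ p) := by
    have := P.hasMap_X.2
    rw [hPg] at this
    simpa [τ, map_ofNat] using this
  let U : ι → C₀ := algebraMap A C₀ ∘ u₀
  let W : ι → C₀ := algebraMap A C₀ ∘ w₀
  have hQU : q B₀ U = τ a₀ := by rw [hB₀, map_q]; show τ (σ _) = _; rw [ha₀]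
  have hQW : q B₀ W = τ a₀ * τ c := by rw [hB₀, map_q, ← map_mul, hc]; rfl
  have hUW : bS B₀ U W = τ a₀ * τ p := by rw [hB₀, map_bS, ← map_mul, hp]; rfl
  let v : ι → C₀ := t • U + W
  have hv : q B₀ v = 0 := by
    rw [show v = t • U + W from rfl, q_add, q_smul, bS_smul_left, hQU, hQW, hUW]
    linear_combination τ (a₀ : A') * ht
  obtain ⟨d, hd⟩ : IsUnit (bS B₀ v U) := by
    rw [show v = t • U + W from rfl, bS_add_left, bS_smul_left, bS_self, bS_comm B₀ W, hUW, hQU,
      show t * (2 * τ (a₀ : A')) + τ a₀ * τ p = τ a₀ * (2 * t + τ p) by ring]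
    exact (a₀.isUnit.map τ).mul htu
  let w₁ : ι → C₀ := (↑d⁻¹ : C₀) • (U - ((↑d⁻¹ : C₀) * q B₀ U) • v)
  have hvw : bS B₀ v w₁ = 1 := by
    rw [show w₁ = _ from rfl, bS_smul_right, bS_sub_right, bS_smul_right, bS_self, hv, ← hd]
    simp
  have hw : q B₀ w₁ = 0 := by
    rw [show w₁ = _ from rfl, q_smul, sub_eq_add_neg, ← neg_smul, q_add, q_smul, hv, bS_smul_right, bS_comm,
      ← hd]
    linear_combination (-(↑d⁻¹ : C₀) * ↑d⁻¹ * q B₀ U) * d.inv_mul
  obtain ⟨a, b, hab⟩ : ∃ a b, ψ₀ (v a * w₁ b - v b * w₁ a) ≠ 0 := by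
    by_contra hcon
    push Not at hcon
    have hz : ∀ a, ψ₀ (v a) = 0 := fun a => by
      have e : v a * bS B₀ v w₁ - w₁ a * bS B₀ v v = bS B₀ v (v a • w₁ - w₁ a • v) := by
        rw [bS_sub_right, bS_smul_right B₀ (v a) v w₁, bS_smul_right B₀ (w₁ a) v v]
      rw [hvw, bS_self, hv, mul_zero, mul_zero, mul_one, sub_zero] at e
      rw [e, ← map_bS]
      rw [show (ψ₀ ∘ (v a • w₁ - w₁ a • v)) = 0 from funext fun b => by
        rw [Function.comp_apply, Pi.sub_apply, Pi.smul_apply, Pi.smul_apply, smul_eq_mul, smul_eq_mul, mul_comm (w₁ a)]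
        exact hcon a b]
      simp [bS]
    have h1 := congrArg ψ₀ hvw
    rw [← map_bS, map_one, show ψ₀ ∘ v = 0 from funext hz] at h1
    simp [bS] at h1
  let M : C₀ := v a * w₁ b - v b * w₁ a
  let C := Localization.Away M
  let ψ : C →+* AlgebraicClosure K := IsLocalization.Away.lift M (isUnit_iff_ne_zero.2 hab)
  let π := algebraMap C₀ C
  have hπ : (algebraMap A C : A →+* C) = π.comp (algebraMap A C₀) := IsScalarTower.algebraMap_eq A C₀ C
  have hB : B.map (algebraMap A C) = B₀.map π := by rw [hπ, hB₀, Matrix.map_map]; rfl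
  refine ⟨C, inferInstance, inferInstance, AlgebraicClosure K, inferInstance, ψ, j, π ∘ v, π ∘ w₁, a, b,
    inferInstance, ?_, ?_, ?_, ?_, ?_, ?_⟩
  · ext x
    rw [hπ]
    show ψ (π (algebraMap A C₀ x)) = _
    rw [show ψ (π (algebraMap A C₀ x)) = ψ₀ (algebraMap A C₀ x) from IsLocalization.Away.lift_eq M _ _]
    show P.lift r hroot (algebraMap A' C₀ (σ x)) = _
    rw [AlgHom.commutes]
    show j (φ' (σ x)) = _
    rw [show φ' (σ x) = φ x from IsLocalization.Away.lift_eq f _ _]
    rfl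
  · rw [hB, map_q, hv, map_zero]
  · rw [hB, map_q, hw, map_zero]
  · rw [hB, map_bS, hvw, map_one]
  · rintro rfl
    exact hab (by simp)
  · show IsUnit (π (v a) * π (w₁ b) - π (v b) * π (w₁ a))
    rw [← map_mul, ← map_mul, ← map_sub]
    exact IsLocalization.Away.algebraMap_isUnit M

section Complement

variable {C : Type u} [CommRing C] {ι : Type*} [Fintype ι] [DecidableEq ι]

/-- orthogonal complement of a hyperbolic pair -/
theorem exists_complement (B : Matrix ι ι C) (hdet : IsUnit (B + Bᵀ).det) {v w : ι → C}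
    (hv : q B v = 0) (hw : q B w = 0) (hvw : bS B v w = 1) {a b : ι} (hab : a ≠ b)
    (hM : IsUnit (v a * w b - v b * w a)) :
    ∃ (F : Matrix ι ({k // k ≠ a ∧ k ≠ b} ⊕ Fin 2) C) (H : Matrix ({k // k ≠ a ∧ k ≠ b} ⊕ Fin 2) ι C)
      (B₁ : Matrix {k // k ≠ a ∧ k ≠ b} {k // k ≠ a ∧ k ≠ b} C),
      F * H = 1 ∧ H * F = 1 ∧ IsUnit (B₁ + B₁ᵀ).det ∧
        ∀ (D : Type u) [CommRing D] (σ : C →+* D) (y), q (B.map σ) (F.map σ *ᵥ y) =
          q (B₁.map σ) (fun k => y (.inl k)) + y (.inr 0) * y (.inr 1) := by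
  classical
  let κ := {k // k ≠ a ∧ k ≠ b}
  let e : κ ⊕ Fin 2 → ι := Sum.elim Subtype.val ![a, b]
  have he : Function.Bijective e := by
    refine ⟨?_, fun k => ?_⟩
    · rintro (⟨x, hx⟩ | x) (⟨y, hy⟩ | y) h
      · simp [e] at h
        subst h
        rfl
      · fin_cases y <;> simp [e] at h <;> [exact absurd h hx.1; exact absurd h hx.2]
      · fin_cases x <;> simp [e] at h <;> [exact absurd h.symm hy.1; exact absurd h.symm hy.2]
      · fin_cases x <;> fin_cases y <;> simp [e, hab, hab.symm] at h ⊢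
    · by_cases ha : k = a
      · exact ⟨.inr 0, by simp [e, ha]⟩
      by_cases hb : k = b
      · exact ⟨.inr 1, by simp [e, hb]⟩
      exact ⟨.inl ⟨k, ha, hb⟩, rfl⟩
  let E := Equiv.ofBijective e he
  let g₀ : Matrix ι (κ ⊕ Fin 2) C := Matrix.of fun i =>
    Sum.elim (fun k => (Pi.single k.1 (1 : C) : ι → C) i) ![v i, w i]
  have hg₀ : IsUnit (g₀.submatrix E id).det := by
    have : g₀.submatrix E id = fromBlocks 1 (Matrix.of fun k => ![v k.1, w k.1]) 0
        (!![v a, w a; v b, w b] : Matrix (Fin 2) (Fin 2) C) := by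
      ext i j
      rcases i with i | i <;> rcases j with j | j
      · simp [g₀, E, e, Pi.single_apply, Matrix.one_apply, Subtype.coe_inj]
      · simp [g₀, E, e]
      · fin_cases i <;> simp [g₀, E, e, Pi.single_apply, Ne.symm j.2.1, Ne.symm j.2.2]
      · fin_cases i <;> fin_cases j <;> simp [g₀, E, e]
    rw [this, det_fromBlocks_zero₂₁, det_one, one_mul, det_fin_two_of]
    exact (by linear_combination : v a * w b - v b * w a = v a * w b - w a * v b) ▸ hM
  let H₀ : Matrix (κ ⊕ Fin 2) ι C := (g₀.submatrix E id)⁻¹.submatrix id E.symm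
  have hgH : g₀ * H₀ = 1 := by
    have h0 : g₀ = (g₀.submatrix E id).submatrix E.symm id := by ext; simp
    conv_lhs => arg 1; rw [h0]
    exact (submatrix_mul _ _ _ id _ Function.bijective_id).symm.trans
      (by rw [mul_nonsing_inv _ hg₀, submatrix_one_equiv])
  have hHg : H₀ * g₀ = 1 := by
    have h1 := nonsing_inv_mul _ hg₀
    rw [← h1]
    ext i j
    simp only [mul_apply, H₀, submatrix_apply, id_eq]
    exact (E.symm.sum_comp fun x => (g₀.submatrix E id)⁻¹ i x * g₀.submatrix E id x j).symm.trans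
      (Finset.sum_congr rfl fun x _ => by simp) |>.symm
  let N : Matrix (Fin 2) κ C := Matrix.of fun r k => ![-bS B w (Pi.single k.1 1), -bS B v (Pi.single k.1 1)] r
  let U : Matrix (κ ⊕ Fin 2) (κ ⊕ Fin 2) C := fromBlocks 1 0 N 1
  let U' : Matrix (κ ⊕ Fin 2) (κ ⊕ Fin 2) C := fromBlocks 1 0 (-N) 1
  have hUU : U * U' = 1 ∧ U' * U = 1 := by
    constructor <;> simp [U, U', fromBlocks_multiply, fromBlocks_one]
  let F := g₀ * U
  have hFH : F * (U' * H₀) = 1 := by
    rw [Matrix.mul_assoc, ← Matrix.mul_assoc U, hUU.1, Matrix.one_mul, hgH]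
  have hHF : U' * H₀ * F = 1 := by
    rw [Matrix.mul_assoc, ← Matrix.mul_assoc H₀, hHg, Matrix.one_mul, hUU.2]
  let π : (ι → C) → (ι → C) := fun x => x - bS B w x • v - bS B v x • w
  have hFl : ∀ k : κ, (fun i => F i (.inl k)) = π (Pi.single k.1 1) := fun k => by
    funext i
    simp [F, U, mul_apply, Fintype.sum_sum_type, Fin.sum_univ_two, g₀, N, π, Matrix.one_apply]
    rw [Finset.sum_eq_single k (fun x _ hx => if_neg hx) (fun h => absurd (Finset.mem_univ k) h), if_pos rfl]
    ring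
  have hF0 : (fun i => F i (.inr 0)) = v := by
    funext i
    simp [F, U, mul_apply, Fintype.sum_sum_type, Fin.sum_univ_two, g₀]
  have hF1 : (fun i => F i (.inr 1)) = w := by
    funext i
    simp [F, U, mul_apply, Fintype.sum_sum_type, Fin.sum_univ_two, g₀]
  let G : Matrix ι κ C := F.submatrix id Sum.inl
  have hvv : bS B v v = 0 := by rw [bS_self, hv, mul_zero]
  have hww : bS B w w = 0 := by rw [bS_self, hw, mul_zero]
  have hwv : bS B w v = 1 := by rw [bS_comm, hvw]
  have hpv : ∀ x, bS B v (π x) = 0 := fun x => by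
    simp only [π, bS_sub_right, bS_smul_right, hvv, hvw]
    ring
  have hpw : ∀ x, bS B w (π x) = 0 := fun x => by
    simp only [π, bS_sub_right, bS_smul_right, hww, hwv]
    ring
  have hGS : ∀ z, (z = v ∨ z = w) → z ᵥ* ((B + Bᵀ) * G) = 0 := fun z hz => by
    funext k
    rw [← vecMul_vecMul]
    show (z ᵥ* (B + Bᵀ)) ⬝ᵥ (fun i => F i (.inl k)) = 0
    rw [← dotProduct_mulVec, hFl]
    rcases hz with rfl | rfl
    · exact hpv _
    · exact hpw _
  have hent : ∀ i j, (Fᵀ * (B + Bᵀ) * F) i j = bS B (fun l => F l i) (fun l => F l j) := fun i j => by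
    simp only [bS, mul_apply, dotProduct, mulVec, transpose_apply, Finset.sum_mul, Finset.mul_sum, mul_assoc]
    exact Finset.sum_comm
  refine ⟨F, U' * H₀, Gᵀ * B * G, hFH, hHF, ?_, fun D _ σ y => ?_⟩
  · let S := B + Bᵀ
    let X := U' * H₀ * S⁻¹ * (U' * H₀)ᵀ
    have hX : Fᵀ * S * F * X = 1 := by
      calc Fᵀ * S * F * X = Fᵀ * S * (F * (U' * H₀)) * S⁻¹ * (U' * H₀)ᵀ := by
            simp only [X, Matrix.mul_assoc]
        _ = Fᵀ * (S * S⁻¹) * (U' * H₀)ᵀ := by rw [hFH, Matrix.mul_one]; simp only [Matrix.mul_assoc]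
        _ = 1 := by rw [mul_nonsing_inv _ hdet, Matrix.mul_one, ← transpose_mul, hHF, transpose_one]
    refine isUnit_det_of_right_inverse (B := X.toBlocks₁₁) ?_
    ext k l
    have h := congrFun (congrFun hX (.inl k)) (.inl l)
    rw [mul_apply, Fintype.sum_sum_type] at h
    have hz : ∀ r : Fin 2, (Fᵀ * S * F) (.inl k) (.inr r) = 0 := fun r => by
      rw [hent, bS_comm, hFl]
      fin_cases r
      · simp only [Fin.zero_eta]
        rw [hF0]
        exact hpv _
      · simp only [Fin.mk_one]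
        rw [hF1]
        exact hpw _
    simp only [hz, zero_mul, Finset.sum_const_zero, add_zero] at h
    rw [mul_apply]
    refine Eq.trans (Finset.sum_congr rfl fun x _ => ?_) (h.trans (by simp [Matrix.one_apply]))
    congr 1
    rw [show Gᵀ * B * G + (Gᵀ * B * G)ᵀ = Gᵀ * (B + Bᵀ) * G by
      rw [Matrix.mul_add, Matrix.add_mul, transpose_mul, transpose_mul, transpose_transpose, Matrix.mul_assoc Gᵀ Bᵀ]]
    rfl
  · have hy : F.map σ *ᵥ y = G.map σ *ᵥ (fun k => y (.inl k)) + (y (.inr 0) • (σ ∘ v) + y (.inr 1) • (σ ∘ w)) := by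
      funext i
      simp [mulVec, dotProduct, Fintype.sum_sum_type, Fin.sum_univ_two, G, ← congrFun hF0 i, ← congrFun hF1 i]
      ring
    have h0 : ∀ z, (z = v ∨ z = w) → ∀ x, bS (B.map σ) (G.map σ *ᵥ x) (σ ∘ z) = 0 := fun z hz x => by
      have e : (σ ∘ z) ᵥ* ((B.map σ + (B.map σ)ᵀ) * G.map σ) = 0 := by
        rw [map_add_transpose, ← Matrix.map_mul]
        funext k
        rw [← RingHom.map_vecMul, hGS z hz, Pi.zero_apply, Pi.zero_apply, map_zero]
      rw [bS_comm, bS, mulVec_mulVec, dotProduct_mulVec, e, zero_dotProduct]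
    rw [hy, q_add, q_add, q_smul, q_smul, map_q, map_q, hv, hw, map_zero, bS_add_right, bS_smul_right, bS_smul_right,
      bS_smul_right, bS_smul_left, h0 v (Or.inl rfl), h0 w (Or.inr rfl), map_bS, hvw, map_one, Matrix.map_mul,
      Matrix.map_mul, transpose_map, q_pullback]
    ring

end Complement

/-- reindexing two families of size `m + 1` -/
def splitEquiv (m : ℕ) : Fin (m + 1) ⊕ Fin (m + 1) ≃ (Fin m ⊕ Fin m) ⊕ Fin 2 where
  toFun := Sum.elim (Fin.lastCases (.inr 0) fun k => .inl (.inl k)) (Fin.lastCases (.inr 1) fun k => .inl (.inr k))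
  invFun := Sum.elim (Sum.elim (fun k => .inl k.castSucc) fun k => .inr k.castSucc) ![.inl (Fin.last m), .inr (Fin.last m)]
  left_inv := by
    rintro (k | k) <;> refine Fin.lastCases ?_ (fun k => ?_) k <;> simp
  right_inv := by
    rintro ((k | k) | k)
    · simp
    · simp
    · fin_cases k <;> simp

/-- forms of even rank with unimodular polar split at every point after an etale extension -/
theorem exists_split_at (m : ℕ) : ∀ (A : Type u) [CommRing A] (ι : Type) [Fintype ι] [DecidableEq ι]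
    (B : Matrix ι ι A), IsUnit (B + Bᵀ).det → Fintype.card ι = m + m → ∀ (K : Type u) [Field K] (φ : A →+* K),
    ∃ (C : Type u) (_ : CommRing C) (_ : Algebra A C) (L : Type u) (_ : Field L) (ψ : C →+* L) (j : K →+* L)
      (g : Matrix ι (Fin m ⊕ Fin m) C) (h : Matrix (Fin m ⊕ Fin m) ι C),
      Algebra.Etale A C ∧ ψ.comp (algebraMap A C) = j.comp φ ∧ g * h = 1 ∧ h * g = 1 ∧
        ∀ x, q (B.map (algebraMap A C)) (g *ᵥ x) = ∑ k : Fin m, x (.inl k) * x (.inr k) := by
  induction m with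
  | zero =>
    intro A _ ι _ _ B _ hι K _ φ
    haveI : IsEmpty ι := Fintype.card_eq_zero_iff.1 hι
    exact ⟨A, inferInstance, Algebra.id A, K, inferInstance, φ, RingHom.id K, 0, 0, inferInstance, rfl,
      Subsingleton.elim _ _, Subsingleton.elim _ _, fun x => by simp [q, dotProduct]⟩
  | succ m ih =>
    intro A _ ι _ _ B hdet hι K _ φ
    classical
    obtain ⟨C, _, _, L, _, ψ, j, v, w, a, b, het, hψ, hv, hw, hvw, hab, hM⟩ :=
      exists_pair B hdet (by omega) φ
    have hdet' : IsUnit (B.map (algebraMap A C) + (B.map (algebraMap A C))ᵀ).det := by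
      rw [map_add_transpose, ← RingHom.mapMatrix_apply, ← RingHom.map_det]
      exact hdet.map _
    obtain ⟨F, H, B₁, hFH, hHF, hdet₁, hB₁⟩ := exists_complement _ hdet' hv hw hvw hab hM
    have hκ : Fintype.card {k // k ≠ a ∧ k ≠ b} = m + m := by
      rw [Fintype.card_congr (Equiv.subtypeEquivRight (q := fun k => k ∉ ({a, b} : Finset ι)) fun k => by simp),
        Fintype.card_subtype_compl, Fintype.card_coe, Finset.card_pair hab, hι]
      omega
    obtain ⟨D, _, _, L', _, ψ', j', g₁, h₁, het', hψ', hgh, hhg, hg₁⟩ := ih C _ B₁ hdet₁ hκ L ψ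
    let σ := algebraMap C D
    letI : Algebra A D := (σ.comp (algebraMap A C)).toAlgebra
    haveI : IsScalarTower A C D := IsScalarTower.of_algebraMap_eq fun _ => rfl
    refine ⟨D, inferInstance, inferInstance, L', inferInstance, ψ', j'.comp j,
      (F.map σ * fromBlocks g₁ 0 0 (1 : Matrix (Fin 2) (Fin 2) D)).submatrix id (splitEquiv m),
      (fromBlocks h₁ 0 0 (1 : Matrix (Fin 2) (Fin 2) D) * H.map σ).submatrix (splitEquiv m) id, Algebra.Etale.comp A C D, ?_, ?_, ?_, fun x => ?_⟩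
    · show ψ'.comp (σ.comp (algebraMap A C)) = _
      rw [← RingHom.comp_assoc, hψ', RingHom.comp_assoc, hψ, RingHom.comp_assoc]
    · rw [submatrix_mul_equiv, submatrix_id_id, Matrix.mul_assoc, ← Matrix.mul_assoc (fromBlocks g₁ 0 0 (1 : Matrix (Fin 2) (Fin 2) D)),
        fromBlocks_multiply]
      simp [hgh, fromBlocks_one, ← Matrix.map_mul, hFH]
    · rw [← submatrix_mul _ _ _ (id : ι → ι) _ Function.bijective_id, Matrix.mul_assoc,
        ← Matrix.mul_assoc (H.map σ), ← Matrix.map_mul, hHF]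
      simp [fromBlocks_multiply, hhg, fromBlocks_one]
    · rw [submatrix_mulVec_equiv, Function.comp_id, ← mulVec_mulVec,
        show B.map (algebraMap A D) = (B.map (algebraMap A C)).map σ from Matrix.ext fun _ _ => rfl, hB₁ D σ]
      set z := fromBlocks g₁ 0 0 (1 : Matrix (Fin 2) (Fin 2) D) *ᵥ (x ∘ (splitEquiv m).symm) with hz
      have e1 : (fun k => z (.inl k)) = g₁ *ᵥ (fun i => x ((splitEquiv m).symm (.inl i))) := by
        funext k; simp [hz, fromBlocks_mulVec]; rfl
      rw [e1, hg₁, Fin.sum_univ_castSucc]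
      simp [hz, fromBlocks_mulVec, splitEquiv]

end Groth.Agent.QEtSplit
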